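import Groth.Prelude.Def_W4c5quivmodgenus0Quiv
import Mathlib.LinearAlgebra.FiniteDimensional.Lemmas
import Mathlib.Tactic.Linarith
import Mathlib.Tactic.Ring

/-!
# Reduction of a heavy pair of indices for the quiver of points on a line
-/

set_option autoImplicit false

universe u v

namespace Groth.Agent.Lib.QuivReduce.Basic

open PtQuiv

variable {K : Type u} [Field K] {κ : Type v} [Fintype κ] [DecidableEq κ] {a b : κ}
  {s : κ → (Fin 2 → K)} {θ : κ → ℚ}

/-- The indices different from `a` and `b`. -/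
abbrev Rest (a b : κ) : Type v := {i : κ // i ≠ a ∧ i ≠ b}

theorem bot_rank : Module.finrank K (⊥ : Submodule K K) = 0 := _root_.finrank_bot K K

theorem top_rank : Module.finrank K (⊤ : Submodule K K) = 1 := by
  rw [_root_.finrank_top, Module.finrank_self]

variable (a b) in
/-- The reduced weight at the two sinks. -/
def eta (θ : κ → ℚ) : Fin 2 → ℚ := ![(2 - θ a - θ b)⁻¹ * (θ a - 1), (2 - θ a - θ b)⁻¹ * (θ b - 1)]

variable (a b) in
/-- The reduced weight at the sources. -/
def th (θ : κ → ℚ) : Rest a b → ℚ := fun i => (2 - θ a - θ b)⁻¹ * θ i.1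

variable (a b) in
/-- The indices kept by the subrepresentation of `Q` attached to `(U, I)`. -/
noncomputable def lift (U : Fin 2 → Submodule K K) (I : Finset (Rest a b)) : Finset κ :=
  open Classical in
  I.map (Function.Embedding.subtype _) ∪ (if U 0 = ⊥ then ∅ else {a}) ∪ (if U 1 = ⊥ then ∅ else {b})

variable (s a b) in
/-- The subspace attached to `U`. -/
def span (U : Fin 2 → Submodule K K) : Submodule K (Fin 2 → K) :=
  (U 0).map (LinearMap.toSpanSingleton K _ (s a)) ⊔ (U 1).map (LinearMap.toSpanSingleton K _ (s b))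

theorem finrank_cases (U : Submodule K K) : (U = ⊥ ∧ Module.finrank K U = 0) ∨ (U = ⊤ ∧ Module.finrank K U = 1) := by
  rcases (IsSimpleOrder.eq_bot_or_eq_top U) with h | h
  · exact Or.inl ⟨h, by rw [h, finrank_bot]⟩
  · exact Or.inr ⟨h, by rw [h, finrank_top, Module.finrank_self]⟩

theorem finrank_span (hli : LinearIndependent K ![s a, s b]) (U : Fin 2 → Submodule K K) :
    Module.finrank K (span a b s U) = Module.finrank K (U 0) + Module.finrank K (U 1) := by
  have ha : Function.Injective (LinearMap.toSpanSingleton K (Fin 2 → K) (s a)) := by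
    exact smul_left_injective K (hli.ne_zero 0)
  have hb : Function.Injective (LinearMap.toSpanSingleton K (Fin 2 → K) (s b)) := by
    exact smul_left_injective K (hli.ne_zero 1)
  have hinf : (U 0).map (LinearMap.toSpanSingleton K _ (s a)) ⊓ (U 1).map (LinearMap.toSpanSingleton K _ (s b)) = ⊥ := by
    refine (Submodule.eq_bot_iff _).mpr ?_
    rintro _ ⟨⟨x, -, rfl⟩, ⟨y, -, hy⟩⟩
    have h := LinearIndependent.pair_iff.mp hli x (-y) (by
      simp only [LinearMap.toSpanSingleton_apply] at hy; rw [neg_smul, hy, add_neg_cancel])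
    simp [h.1]
  have := Submodule.finrank_sup_add_finrank_inf_eq ((U 0).map (LinearMap.toSpanSingleton K _ (s a)))
    ((U 1).map (LinearMap.toSpanSingleton K _ (s b)))
  rw [hinf, finrank_bot, add_zero] at this
  rw [span, this, ← (Submodule.equivMapOfInjective _ ha (U 0)).finrank_eq, ← (Submodule.equivMapOfInjective _ hb (U 1)).finrank_eq]

theorem sum_lift (hab : a ≠ b) (U : Fin 2 → Submodule K K) (I : Finset (Rest a b)) :
    ∑ i ∈ lift a b U I, θ i =
      ∑ i ∈ I, θ i.1 + (Module.finrank K (U 0) : ℚ) * θ a + (Module.finrank K (U 1) : ℚ) * θ b := by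
  classical
  have h1 : a ∉ I.map (Function.Embedding.subtype _) := by simp
  have h2 : b ∉ I.map (Function.Embedding.subtype _) := by simp
  rcases finrank_cases (U 0) with ⟨e0, f0⟩ | ⟨e0, f0⟩ <;> rcases finrank_cases (U 1) with ⟨e1, f1⟩ | ⟨e1, f1⟩ <;>
    simp [lift, e0, e1, f0, f1, hab, h1, h2, Finset.sum_union, Finset.union_assoc, Finset.sum_map] <;> ring

theorem qWt_lift (hab : a ≠ b) (hli : LinearIndependent K ![s a, s b]) (hθ' : θ a + θ b < 2)
    (U : Fin 2 → Submodule K K) (I : Finset (Rest a b)) :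
    PWt K (eta a b θ) (th a b θ) U I = (2 - θ a - θ b)⁻¹ * QWt K (-1) θ (span a b s U) (lift a b U I) := by
  rw [PWt, QWt, finrank_span hli, sum_lift hab, Fin.sum_univ_two]
  simp only [eta, th, ← Finset.mul_sum, Matrix.cons_val_zero, Matrix.cons_val_one]
  push_cast
  ring

theorem subrep_lift {t : Rest a b → (Fin 2 → K)} (ht : ∀ i, s i.1 = t i 0 • s a + t i 1 • s b)
    {U : Fin 2 → Submodule K K} {I : Finset (Rest a b)} (h : PSubrep t U I) :
    QSubrep s (span a b s U) (lift a b U I) := by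
  classical
  intro i hi
  simp only [lift, Finset.mem_union, Finset.mem_map, Function.Embedding.subtype_apply] at hi
  rcases hi with (⟨j, hj, rfl⟩ | hi) | hi
  · rw [ht]
    exact Submodule.add_mem_sup ⟨_, h j hj 0, rfl⟩ ⟨_, h j hj 1, rfl⟩
  · split_ifs at hi with h0
    · simp at hi
    · rw [Finset.mem_singleton.mp hi]
      refine Submodule.mem_sup_left ⟨1, ?_, one_smul K _⟩
      rw [(IsSimpleOrder.eq_bot_or_eq_top (U 0)).resolve_left h0]; trivial
  · split_ifs at hi with h1
    · simp at hi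
    · rw [Finset.mem_singleton.mp hi]
      refine Submodule.mem_sup_right ⟨1, ?_, one_smul K _⟩
      rw [(IsSimpleOrder.eq_bot_or_eq_top (U 1)).resolve_left h1]; trivial

theorem indep_of_semistable (hab : a ≠ b) (h0 : ∀ i, 0 ≤ θ i) (h1 : ∀ i, θ i ≤ 1) (hθ : 1 < θ a + θ b)
    (h : QSemistable (-1) θ s) : LinearIndependent K ![s a, s b] := by
  have hzero : ∀ i, s i = 0 → θ i ≤ 0 := fun i hi => by
    have := h.2 ⊥ {i} (fun j hj => by rw [Finset.mem_singleton.mp hj, hi]; exact Submodule.zero_mem _)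
    simpa [QWt] using this
  have ha : s a ≠ 0 := fun e => by linarith [hzero a e, h1 b]
  rw [LinearIndependent.pair_iff' ha]
  intro x hx
  have hsub : QSubrep s (K ∙ s a) {a, b} := fun i hi => by
    rcases Finset.mem_insert.mp hi with rfl | hi
    · exact Submodule.mem_span_singleton_self _
    · rw [Finset.mem_singleton.mp hi, ← hx]
      exact Submodule.smul_mem _ _ (Submodule.mem_span_singleton_self _)
  have := h.2 _ _ hsub
  simp only [QWt, finrank_span_singleton ha, Finset.sum_pair hab, Nat.cast_one] at this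
  linarith

theorem span_le {L : Submodule K (Fin 2 → K)} {U : Fin 2 → Submodule K K} (ha : U 0 = ⊥ ∨ s a ∈ L)
    (hb : U 1 = ⊥ ∨ s b ∈ L) : span a b s U ≤ L := by
  refine sup_le ?_ ?_
  · rcases ha with h | h
    · simp [h]
    · rintro _ ⟨x, -, rfl⟩; exact L.smul_mem x h
  · rcases hb with h | h
    · simp [h]
    · rintro _ ⟨x, -, rfl⟩; exact L.smul_mem x h

/-- Every subrepresentation of `Q` is bounded by a lifted one, or is strictly negative. -/
theorem qWt_cases (hab : a ≠ b) (hli : LinearIndependent K ![s a, s b]) (h0 : ∀ i, 0 ≤ θ i)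
    (h2 : ∑ i, θ i = 2) (hθ : 1 < θ a + θ b) {t : Rest a b → (Fin 2 → K)}
    (ht : ∀ i, s i.1 = t i 0 • s a + t i 1 • s b) (L : Submodule K (Fin 2 → K)) (I : Finset κ) (h : QSubrep s L I) :
    QWt K (-1) θ L I < 0 ∨ ∃ (U : Fin 2 → Submodule K K) (J : Finset (Rest a b)), PSubrep t U J ∧
      L = span a b s U ∧ I ⊆ lift a b U J ∧ (∀ i : Rest a b, i.1 ∈ I ↔ i ∈ J) := by
  classical
  let J : Finset (Rest a b) := Finset.univ.filter fun i => i.1 ∈ I
  have hJ : ∀ i : Rest a b, i.1 ∈ I ↔ i ∈ J := fun i => by simp [J]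
  have hle : Module.finrank K L ≤ 2 := (Submodule.finrank_le L).trans (by simp)
  have hcoord : ∀ (i : Rest a b) (U : Fin 2 → Submodule K K), s i.1 ∈ span a b s U → ∀ j, t i j ∈ U j := by
    intro i U hi j
    obtain ⟨_, ⟨x, hx, rfl⟩, _, ⟨y, hy, rfl⟩, hxy⟩ := Submodule.mem_sup.mp hi
    rw [ht, LinearMap.toSpanSingleton_apply, LinearMap.toSpanSingleton_apply] at hxy
    have := LinearIndependent.pair_iff.mp hli (x - t i 0) (y - t i 1) (by
      rw [sub_smul, sub_smul, sub_add_sub_comm, hxy, sub_self])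
    fin_cases j
    · show t i 0 ∈ U 0
      rw [← sub_eq_zero.mp this.1]; exact hx
    · show t i 1 ∈ U 1
      rw [← sub_eq_zero.mp this.2]; exact hy
  have hfinish : ∀ U : Fin 2 → Submodule K K, (U 0 = ⊥ ∨ s a ∈ L) → (U 1 = ⊥ ∨ s b ∈ L) →
      Module.finrank K L = Module.finrank K (U 0) + Module.finrank K (U 1) →
      (a ∈ I → U 0 ≠ ⊥) → (b ∈ I → U 1 ≠ ⊥) →
      ∃ (U : Fin 2 → Submodule K K) (J : Finset (Rest a b)), PSubrep t U J ∧
        L = span a b s U ∧ I ⊆ lift a b U J ∧ (∀ i : Rest a b, i.1 ∈ I ↔ i ∈ J) := by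
    intro U ha hb hd haI hbI
    have hL : span a b s U = L := Submodule.eq_of_le_of_finrank_eq (span_le ha hb) (by rw [finrank_span hli, hd])
    refine ⟨U, J, fun i hi j => hcoord i U (hL ▸ h _ ((hJ i).mpr hi)) j, hL.symm, fun i hi => ?_, hJ⟩
    simp only [lift, Finset.mem_union, Finset.mem_map, Function.Embedding.subtype_apply]
    by_cases hia : i = a
    · subst hia; exact Or.inl (Or.inr (by simp [haI hi]))
    by_cases hib : i = b
    · subst hib; exact Or.inr (by simp [hbI hi])
    exact Or.inl (Or.inl ⟨⟨i, hia, hib⟩, (hJ _).mp hi, rfl⟩)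
  obtain h3 | h3 | h3 : Module.finrank K L = 0 ∨ Module.finrank K L = 1 ∨ Module.finrank K L = 2 := by omega
  · have hL := Submodule.finrank_eq_zero.mp h3
    refine Or.inr (hfinish ![⊥, ⊥] (Or.inl rfl) (Or.inl rfl) (h3.trans (congrArg₂ (· + ·) bot_rank bot_rank).symm) (fun ha => ?_) (fun hb => ?_))
    · exact absurd (by simpa [hL] using h a ha) (hli.ne_zero 0)
    · exact absurd (by simpa [hL] using h b hb) (hli.ne_zero 1)
  · have hnot : ¬ (s a ∈ L ∧ s b ∈ L) := fun ⟨ha, hb⟩ => by
      have h4 : span a b s ![⊤, ⊤] ≤ L := span_le (Or.inr ha) (Or.inr hb)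
      have := Submodule.finrank_mono h4
      rw [finrank_span hli, h3] at this
      have e : Module.finrank K (⊤ : Submodule K K) + Module.finrank K (⊤ : Submodule K K) ≤ 1 := this
      rw [top_rank] at e
      omega
    by_cases haI : a ∈ I
    · exact Or.inr (hfinish ![⊤, ⊥] (Or.inr (h a haI)) (Or.inl rfl) (h3.trans (congrArg₂ (· + ·) top_rank bot_rank).symm) (fun _ => by simp)
        (fun hb => absurd ⟨h a haI, h b hb⟩ hnot))
    by_cases hbI : b ∈ I
    · exact Or.inr (hfinish ![⊥, ⊤] (Or.inl rfl) (Or.inr (h b hbI)) (h3.trans (congrArg₂ (· + ·) bot_rank top_rank).symm) (fun ha => absurd ha haI)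
        (fun _ => by simp))
    left
    have h4 : ∑ i ∈ I, θ i + (θ a + θ b) ≤ 2 := by
      rw [← h2, ← Finset.sum_pair hab, ← Finset.sum_union (by simp [haI, hbI])]
      exact Finset.sum_le_sum_of_subset_of_nonneg (Finset.subset_univ _) fun i _ _ => h0 i
    simp only [QWt, h3, Nat.cast_one]
    linarith
  · have hL : L = ⊤ := Submodule.eq_top_of_finrank_eq (by simp [h3, bot_rank, top_rank])
    exact Or.inr (hfinish ![⊤, ⊤] (Or.inr (hL ▸ Submodule.mem_top)) (Or.inr (hL ▸ Submodule.mem_top)) (h3.trans (congrArg₂ (· + ·) top_rank top_rank).symm)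
      (fun _ => by simp) (fun _ => by simp))

theorem exists_coord (hli : LinearIndependent K ![s a, s b]) :
    ∃ t : Rest a b → (Fin 2 → K), ∀ i, s i.1 = t i 0 • s a + t i 1 • s b := by
  let B := basisOfLinearIndependentOfCardEqFinrank hli (by simp)
  refine ⟨fun i j => B.repr (s i.1) j, fun i => ?_⟩
  conv_lhs => rw [← B.sum_repr (s i.1)]
  simp [B, Fin.sum_univ_two]

theorem sum_zero (hab : a ≠ b) (h2 : ∑ i, θ i = 2) : (∑ j, eta a b θ j) + ∑ i, th a b θ i = 0 := by
  classical
  have h : ∑ i : Rest a b, θ i.1 = 2 - θ a - θ b := by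
    have hs : ∑ i ∈ (Finset.univ.erase a).erase b, θ i = ∑ i : Rest a b, θ i.1 :=
      Finset.sum_subtype (p := fun i : κ => i ≠ a ∧ i ≠ b) ((Finset.univ.erase a).erase b) (by simp [and_comm]) θ
    rw [← hs, Finset.sum_erase_eq_sub (by simp [hab.symm]), Finset.sum_erase_eq_sub (Finset.mem_univ a), h2]
  simp only [eta, th, ← Finset.mul_sum, h, Fin.sum_univ_two, Matrix.cons_val_zero, Matrix.cons_val_one]
  ring

theorem semistable_iff (hab : a ≠ b) (h0 : ∀ i, 0 ≤ θ i) (h1 : ∀ i, θ i ≤ 1) (h2 : ∑ i, θ i = 2)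
    (hθ : 1 < θ a + θ b) (hθ' : θ a + θ b < 2) :
    QSemistable (-1) θ s ↔ (LinearIndependent K ![s a, s b] ∧ ∀ t : Rest a b → (Fin 2 → K),
      (∀ i, s i.1 = t i 0 • s a + t i 1 • s b) → PSemistable (eta a b θ) (th a b θ) t) := by
  have hc : 0 < (2 - θ a - θ b)⁻¹ := inv_pos.mpr (by linarith)
  constructor
  · intro h
    have hli := indep_of_semistable hab h0 h1 hθ h
    refine ⟨hli, fun t ht => ⟨sum_zero hab h2, fun U I hI => ?_⟩⟩
    rw [qWt_lift hab hli hθ']
    exact mul_nonpos_of_nonneg_of_nonpos hc.le (h.2 _ _ (subrep_lift ht hI))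
  · rintro ⟨hli, h⟩
    obtain ⟨t, ht⟩ := exists_coord hli
    refine ⟨by rw [h2]; norm_num, fun L I hI => ?_⟩
    rcases qWt_cases hab hli h0 h2 hθ ht L I hI with h' | ⟨U, J, hJ, hL, hIJ, -⟩
    · exact h'.le
    · have h5 := (h t ht).2 U J hJ
      rw [qWt_lift hab hli hθ', ← hL] at h5
      have h6 := nonpos_of_mul_nonpos_right h5 hc
      refine le_trans ?_ h6
      exact add_le_add le_rfl (Finset.sum_le_sum_of_subset_of_nonneg hIJ fun i _ _ => h0 i)

theorem stable_iff (hab : a ≠ b) (h0 : ∀ i, 0 ≤ θ i) (h1 : ∀ i, θ i ≤ 1) (h2 : ∑ i, θ i = 2)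
    (hθ : 1 < θ a + θ b) (hθ' : θ a + θ b < 2) :
    QStable (-1) θ s ↔ (LinearIndependent K ![s a, s b] ∧ ∀ t : Rest a b → (Fin 2 → K),
      (∀ i, s i.1 = t i 0 • s a + t i 1 • s b) → PStable (eta a b θ) (th a b θ) t) := by
  classical
  have hc : 0 < (2 - θ a - θ b)⁻¹ := inv_pos.mpr (by linarith)
  have hss := semistable_iff (s := s) hab h0 h1 h2 hθ hθ'
  have ha0 : 0 < θ a := by linarith [h1 b]
  have hb0 : 0 < θ b := by linarith [h1 a]
  constructor
  · rintro ⟨h, hst⟩
    obtain ⟨hli, hP⟩ := hss.mp h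
    refine ⟨hli, fun t ht => ⟨hP t ht, fun U I hI hz => ?_⟩⟩
    rw [qWt_lift hab hli hθ'] at hz
    rcases hst _ _ (subrep_lift ht hI) ((mul_eq_zero.mp hz).resolve_left hc.ne') with ⟨hL, hI'⟩ | ⟨hL, hI'⟩
    · left
      have hd := finrank_span (s := s) hli U
      rw [hL, finrank_bot] at hd
      refine ⟨funext fun j => ?_, Finset.eq_empty_of_forall_notMem fun i hi => ?_⟩
      · fin_cases j
        · exact Submodule.finrank_eq_zero.mp (show Module.finrank K (U 0) = 0 by omega)
        · exact Submodule.finrank_eq_zero.mp (show Module.finrank K (U 1) = 0 by omega)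
      · have : i.1 ∈ lift a b U I := by simp [lift, hi, i.2.1, i.2.2]
        rw [hI'] at this; simp at this
    · right
      have hmem : ∀ x, x ∈ lift a b U I := fun x => hI' ▸ Finset.mem_univ x
      refine ⟨funext fun j => ?_, Finset.eq_univ_of_forall fun i => ?_⟩
      · fin_cases j
        · refine (IsSimpleOrder.eq_bot_or_eq_top (U 0)).resolve_left fun e => ?_
          have := hmem a; simp [lift, e, hab] at this <;> (split_ifs at this <;> simp_all)
        · refine (IsSimpleOrder.eq_bot_or_eq_top (U 1)).resolve_left fun e => ?_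
          have := hmem b; simp [lift, e, hab.symm] at this <;> (split_ifs at this <;> simp_all)
      · have h9 := hmem i.1
        simp only [lift, Finset.mem_union, Finset.mem_map, Function.Embedding.subtype_apply] at h9
        rcases h9 with (⟨j, hj, hji⟩ | h9) | h9
        · exact Subtype.ext hji ▸ hj
        · split_ifs at h9 <;> simp [i.2.1] at h9
        · split_ifs at h9 <;> simp [i.2.2] at h9
  · rintro ⟨hli, hP⟩
    refine ⟨hss.mpr ⟨hli, fun t ht => (hP t ht).1⟩, fun L I hI hz => ?_⟩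
    obtain ⟨t, ht⟩ := exists_coord hli
    rcases qWt_cases hab hli h0 h2 hθ ht L I hI with h' | ⟨U, J, hJ, hL, hIJ, hIiff⟩
    · linarith
    have h5 := (hP t ht).1.2 U J hJ
    rw [qWt_lift hab hli hθ', ← hL] at h5
    have h6 := nonpos_of_mul_nonpos_right h5 hc
    have h7 : ∑ i ∈ I, θ i ≤ ∑ i ∈ lift a b U J, θ i := Finset.sum_le_sum_of_subset_of_nonneg hIJ fun i _ _ => h0 i
    simp only [QWt] at hz h6
    have h8 : PWt K (eta a b θ) (th a b θ) U J = 0 := by
      rw [qWt_lift hab hli hθ', ← hL, QWt, le_antisymm h6 (by linarith), mul_zero]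
    rcases (hP t ht).2 U J hJ h8 with ⟨rfl, rfl⟩ | ⟨rfl, rfl⟩
    · refine Or.inl ⟨by rw [hL]; simp [span], Finset.eq_empty_of_forall_notMem fun i hi => ?_⟩
      have := hIJ hi; simp [lift] at this
    · refine Or.inr ⟨Submodule.eq_top_of_finrank_eq (by rw [hL, finrank_span hli]; simp), Finset.eq_univ_of_forall fun i => ?_⟩
      have hsum : ∑ x ∈ lift a b (⊤ : Fin 2 → Submodule K K) Finset.univ, θ x - ∑ x ∈ I, θ x = 0 := by linarith
      rw [← Finset.sum_sdiff_eq_sub hIJ] at hsum
      by_contra hi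
      have hiθ : θ i ≤ 0 := by
        have hmem : i ∈ lift a b (⊤ : Fin 2 → Submodule K K) Finset.univ \ I := by
          refine Finset.mem_sdiff.mpr ⟨?_, hi⟩
          by_cases hia : i = a
          · simp [lift, hia]
          by_cases hib : i = b
          · simp [lift, hib]
          simp [lift, hia, hib]
        exact hsum ▸ Finset.single_le_sum (fun x _ => h0 x) hmem
      by_cases hia : i = a
      · subst hia; linarith
      by_cases hib : i = b
      · subst hib; linarith
      exact hi ((hIiff ⟨i, hia, hib⟩).mpr (Finset.mem_univ _))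

end Groth.Agent.Lib.QuivReduce.Basic
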